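import Mathlib.LinearAlgebra.ExteriorPower.Basis
import Mathlib.RingTheory.Flat.EquationalCriterion

/-! # Exterior powers of flat modules are flat -/

set_option autoImplicit false
universe u v

open Finsupp

namespace GrothLib.KaehlerFlatX

section Ker

variable {A : Type u} [CommRing A] {F : Type v} [AddCommGroup F] [Module A F]
  {M : Type v} [AddCommGroup M] [Module A M] (π : F →ₗ[A] M) (n : ℕ)

/-- Wedges with a factor in the kernel. -/
def kerGen : Set (⋀[A]^n F) :=
  {x | ∃ (v : Fin n → F) (j : Fin n), π (v j) = 0 ∧ x = exteriorPower.ιMulti A n v}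

theorem ιMulti_sub_mem (v w : Fin n → F) (h : ∀ j, π (v j) = π (w j)) :
    exteriorPower.ιMulti A n v - exteriorPower.ιMulti A n w ∈ Submodule.span A (kerGen π n) := by
  classical
  suffices ∀ s : Finset (Fin n), exteriorPower.ιMulti A n (s.piecewise v w) - exteriorPower.ιMulti A n w ∈
      Submodule.span A (kerGen π n) by simpa using this Finset.univ
  intro s
  induction s using Finset.induction_on with
  | empty => simp
  | insert a t ha ih =>
    have h1 : exteriorPower.ιMulti A n ((insert a t).piecewise v w) - exteriorPower.ιMulti A n (t.piecewise v w) =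
        exteriorPower.ιMulti A n (Function.update (t.piecewise v w) a (v a - w a)) := by
      rw [Finset.piecewise_insert, AlternatingMap.map_update_sub]
      congr 2
      rw [eq_comm, Function.update_eq_self_iff, Finset.piecewise_eq_of_notMem _ _ _ ha]
    have h2 := Submodule.add_mem _ (Submodule.subset_span
      (show _ ∈ kerGen π n from ⟨_, a, by rw [Function.update_self, map_sub, h a, sub_self], h1⟩)) ih
    simpa using h2

theorem ker_map_le (hπ : Function.Surjective π) :
    LinearMap.ker (exteriorPower.map n π) ≤ Submodule.span A (kerGen π n) := by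
  classical
  let S := Submodule.span A (kerGen π n)
  let s := Function.surjInv hπ
  have hs : ∀ m, π (s m) = m := Function.surjInv_eq hπ
  have key : ∀ v w : Fin n → F, (∀ j, π (v j) = π (w j)) →
      S.mkQ (exteriorPower.ιMulti A n v) = S.mkQ (exteriorPower.ιMulti A n w) := fun v w h =>
    (Submodule.Quotient.eq S).2 (ιMulti_sub_mem π n v w h)
  let g : M [⋀^Fin n]→ₗ[A] ((⋀[A]^n F) ⧸ S) :=
    { toFun := fun m => S.mkQ (exteriorPower.ιMulti A n (fun j => s (m j)))
      map_update_add' := fun {inst} m i x y => by
        obtain rfl := Subsingleton.elim inst (instDecidableEqFin n)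
        rw [key _ (Function.update (fun j => s (m j)) i (s x + s y)) (fun j => by
            by_cases hj : j = i
            · subst hj; simp [hs]
            · simp [Function.update_of_ne hj, hs]),
          AlternatingMap.map_update_add, map_add]
        congr 1 <;>
        · congr 2
          funext j
          by_cases hj : j = i
          · subst hj; simp
          · simp [Function.update_of_ne hj]
      map_update_smul' := fun {inst} m i c x => by
        obtain rfl := Subsingleton.elim inst (instDecidableEqFin n)
        rw [key _ (Function.update (fun j => s (m j)) i (c • s x)) (fun j => by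
            by_cases hj : j = i
            · subst hj; simp [hs]
            · simp [Function.update_of_ne hj, hs]),
          AlternatingMap.map_update_smul, map_smul]
        congr 3
        funext j
        by_cases hj : j = i
        · subst hj; simp
        · simp [Function.update_of_ne hj]
      map_eq_zero_of_eq' := fun m i j h hij => by
        rw [(exteriorPower.ιMulti A n).map_eq_zero_of_eq (fun j => s (m j)) (congrArg s h) hij, map_zero] }
  have hg : (exteriorPower.alternatingMapLinearEquiv g).comp (exteriorPower.map n π) = S.mkQ := by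
    refine exteriorPower.linearMap_ext ?_
    ext v
    simp only [LinearMap.compAlternatingMap_apply, LinearMap.comp_apply, exteriorPower.map_apply_ιMulti,
      exteriorPower.alternatingMapLinearEquiv_apply_ιMulti]
    exact key _ _ (fun j => hs _)
  intro z hz
  show z ∈ S
  rw [← S.ker_mkQ, LinearMap.mem_ker, ← hg, LinearMap.comp_apply, LinearMap.mem_ker.1 hz, map_zero]

end Ker

/-- A trivial relation stays trivial under a linear map. -/
theorem isTrivialRelation_map {A : Type u} [CommRing A] {M N : Type*} [AddCommGroup M] [Module A M]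
    [AddCommGroup N] [Module A N] (φ : M →ₗ[A] N) {ι : Type*} [Fintype ι] {f : ι → A} {x : ι → M}
    (h : Module.IsTrivialRelation f x) : Module.IsTrivialRelation f (fun i => φ (x i)) := by
  obtain ⟨k, a, y, hy, ha⟩ := h
  exact ⟨k, a, fun j => φ (y j), fun i => by simp [hy i], ha⟩

theorem flat_exteriorPower (A : Type u) [CommRing A] (M : Type u) [AddCommGroup M] [Module A M]
    [Module.Flat A M] (n : ℕ) : Module.Flat A (⋀[A]^n M) := by
  classical
  refine Module.Flat.of_forall_isTrivialRelation fun {l f x} hfx => ?_
  let π : (M →₀ A) →ₗ[A] M := linearCombination A id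
  have hπ : Function.Surjective π := fun m => ⟨single m 1, by simp [π]⟩
  choose z hz using fun j => exteriorPower.map_surjective (n := n) hπ (x j)
  have hker : ∑ j, f j • z j ∈ Submodule.span A (kerGen π n) :=
    ker_map_le π n hπ (by simp [map_sum, hz, hfx])
  obtain ⟨t, htsub, ht⟩ := Submodule.mem_span_finite_of_mem_span hker
  choose v jj hv hgv using fun g : t => (htsub g.2 : (g : ⋀[A]^n (M →₀ A)) ∈ kerGen π n)
  let k : t → (M →₀ A) := fun g => v g (jj g)
  let T : Finset M := Finset.univ.biUnion fun g => (k g).support
  let ι : (↥T →₀ A) →ₗ[A] (M →₀ A) := lmapDomain A A Subtype.val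
  let r : (M →₀ A) →ₗ[A] (↥T →₀ A) := lcomapDomain Subtype.val Subtype.val_injective
  have hrk : ∀ g, ι (r (k g)) = k g := fun g =>
    mapDomain_comapDomain _ Subtype.val_injective _ (fun m hm => ⟨⟨m,
      Finset.mem_biUnion.2 ⟨g, Finset.mem_univ _, hm⟩⟩, rfl⟩)
  have h0 : (π ∘ₗ ι) ∘ₗ linearCombination A (fun g => r (k g)) = 0 := by
    refine Finsupp.lhom_ext fun g c => ?_
    simp [hrk, k, hv]
  obtain ⟨m, a₀, y₀, hy₀, ha₀⟩ := Module.Flat.exists_factorization_of_comp_eq_zero_of_free h0
  let a : (M →₀ A) →ₗ[A] ((Fin m →₀ A) × (M →₀ A)) := (a₀ ∘ₗ r).prod (LinearMap.id - ι ∘ₗ r)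
  let y : ((Fin m →₀ A) × (M →₀ A)) →ₗ[A] M := y₀.coprod π
  have hya : y ∘ₗ a = π := by
    refine LinearMap.ext fun w => ?_
    have := LinearMap.congr_fun hy₀ (r w)
    simp only [LinearMap.comp_apply] at this
    simp [a, y, ← this]
  have hak : ∀ g, a (k g) = 0 := fun g => by
    have := LinearMap.congr_fun ha₀ (single g 1)
    simp only [LinearMap.comp_apply, linearCombination_single, one_smul, LinearMap.zero_apply] at this
    simp [a, hrk, this]
  have hgen : ∀ g ∈ t, exteriorPower.map n a g = 0 := fun g hg => by
    have hg' : g = exteriorPower.ιMulti A n (v ⟨g, hg⟩) := hgv ⟨g, hg⟩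
    rw [hg', exteriorPower.map_apply_ιMulti]
    exact (exteriorPower.ιMulti A n).map_coord_zero (jj ⟨g, hg⟩) (hak ⟨g, hg⟩)
  have hrel : ∑ j, f j • exteriorPower.map n a (z j) = 0 := by
    have h := (Submodule.span_le.2 (fun g hg => LinearMap.mem_ker.2 (hgen g hg)) :
      Submodule.span A (t : Set (⋀[A]^n (M →₀ A))) ≤ LinearMap.ker (exteriorPower.map n a)) ht
    simpa [map_sum] using h
  convert isTrivialRelation_map (exteriorPower.map n y) (Module.Flat.isTrivialRelation_of_sum_smul_eq_zero hrel)
    using 1
  funext j
  rw [← LinearMap.comp_apply, ← exteriorPower.map_comp, hya, hz]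

end GrothLib.KaehlerFlatX
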