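import Groth.Agent.Lib.KaehlerFlatX.ExtFlat
import Groth.Agent.Lib.CTensor.Main
import Groth.Agent.Lib.GeomReg.Descent
import Groth.Agent.S0595
import Mathlib.RingTheory.Kaehler.Basic
import Mathlib.RingTheory.Kaehler.TensorProduct
import Mathlib.RingTheory.Smooth.Basic
import Mathlib.Algebra.Field.ULift
import Mathlib.Algebra.Algebra.ZMod

/-! # Differentials of a regular algebra over a perfect field are flat -/

set_option autoImplicit false
universe u

open Finsupp TensorProduct

namespace GrothLib.KaehlerFlatX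

variable (R A : Type u) [CommRing R] [CommRing A] [Algebra R A]

/-- `d` satisfies the rules of a derivation as far as the finite set `s` can see. -/
def IsDerOn (s : Finset A) {N : Type u} [AddCommGroup N] [Module A N] (d : A → N) : Prop :=
  (∀ a ∈ s, ∀ b ∈ s, a + b ∈ s → d (a + b) = d a + d b) ∧
    (∀ a ∈ s, ∀ b ∈ s, a * b ∈ s → d (a * b) = a • d b + b • d a) ∧
    (∀ r : R, algebraMap R A r ∈ s → d (algebraMap R A r) = 0)

variable {R A}

theorem IsDerOn.mono {s t : Finset A} (h : s ⊆ t) {N : Type u} [AddCommGroup N] [Module A N] {d : A → N}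
    (hd : IsDerOn R A t d) : IsDerOn R A s d :=
  ⟨fun a ha b hb hab => hd.1 a (h ha) b (h hb) (h hab), fun a ha b hb hab => hd.2.1 a (h ha) b (h hb) (h hab),
    fun r hr => hd.2.2 r (h hr)⟩

/-- Every relation between differentials is seen by a finite set. -/
theorem exists_finset_of_mem_kerTotal {z : A →₀ A} (hz : z ∈ KaehlerDifferential.kerTotal R A) :
    ∃ s : Finset A, ∀ (N : Type u) [AddCommGroup N] [Module A N] (d : A → N), IsDerOn R A s d →
      linearCombination A d z = 0 := by
  classical
  induction hz using Submodule.span_induction with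
  | mem x hx =>
    rcases hx with (⟨⟨a, b⟩, rfl⟩ | ⟨⟨a, b⟩, rfl⟩) | ⟨r, rfl⟩
    · refine ⟨{a, b, a + b}, fun N _ _ d hd => ?_⟩
      simp [hd.1 a (by simp) b (by simp) (by simp)]
    · refine ⟨{a, b, a * b}, fun N _ _ d hd => ?_⟩
      simp [hd.2.1 a (by simp) b (by simp) (by simp), add_comm]
    · refine ⟨{algebraMap R A r}, fun N _ _ d hd => ?_⟩
      simp [hd.2.2 r (by simp)]
  | zero => exact ⟨∅, fun N _ _ d _ => map_zero _⟩
  | add x y _ _ hx hy =>
    obtain ⟨s, hs⟩ := hx
    obtain ⟨t, ht⟩ := hy
    exact ⟨s ∪ t, fun N _ _ d hd => by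
      rw [map_add, hs N d (hd.mono Finset.subset_union_left), ht N d (hd.mono Finset.subset_union_right), add_zero]⟩
  | smul c x _ hx =>
    obtain ⟨s, hs⟩ := hx
    exact ⟨s, fun N _ _ d hd => by rw [map_smul, hs N d hd, smul_zero]⟩

/-- If finitely generated subalgebras factor through smooth algebras, the differentials are flat. -/
theorem flat_kaehler_of_factor
    (H : ∀ B : Subalgebra R A, B.FG → ∃ (C : Type u) (_ : CommRing C) (_ : Algebra R C),
      Algebra.Smooth R C ∧ ∃ (g : B →ₐ[R] C) (h : C →ₐ[R] A), h.comp g = B.val) :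
    Module.Flat A (Ω[A⁄R]) := by
  classical
  refine Module.Flat.of_forall_isTrivialRelation fun {l f x} hfx => ?_
  choose z hz using fun j => KaehlerDifferential.linearCombination_surjective R A (x j)
  have hker : ∑ j, f j • z j ∈ KaehlerDifferential.kerTotal R A := by
    rw [← KaehlerDifferential.kerTotal_eq, LinearMap.mem_ker, map_sum]
    simpa [hz] using hfx
  obtain ⟨s₀, hs₀⟩ := exists_finset_of_mem_kerTotal hker
  let s : Finset A := s₀ ∪ Finset.univ.biUnion fun j => (z j).support
  obtain ⟨C, _, _, _, g, h, hgh⟩ := H (Algebra.adjoin R (s : Set A)) ⟨s, rfl⟩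
  letI : Algebra C A := h.toRingHom.toAlgebra
  haveI : IsScalarTower R C A := IsScalarTower.of_algebraMap_eq fun r => (h.commutes r).symm
  let σ : A → C := fun a => if ha : a ∈ Algebra.adjoin R (s : Set A) then g ⟨a, ha⟩ else 0
  have hmem : ∀ a ∈ s, a ∈ Algebra.adjoin R (s : Set A) := fun a ha => Algebra.subset_adjoin ha
  have hσ : ∀ a (ha : a ∈ s), σ a = g ⟨a, hmem a ha⟩ := fun a ha => dif_pos (hmem a ha)
  have hσh : ∀ a ∈ s, algebraMap C A (σ a) = a := fun a ha => by
    rw [hσ a ha]
    exact AlgHom.congr_fun hgh ⟨a, hmem a ha⟩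
  let d : A → A ⊗[C] Ω[C⁄R] := fun a => (1 : A) ⊗ₜ KaehlerDifferential.D R C (σ a)
  have hd : IsDerOn R A s d := by
    refine ⟨fun a ha b hb hab => ?_, fun a ha b hb hab => ?_, fun r hr => ?_⟩
    · have : σ (a + b) = σ a + σ b := by
        rw [hσ _ hab, hσ a ha, hσ b hb, ← map_add]; rfl
      simp [d, this, tmul_add]
    · have : σ (a * b) = σ a * σ b := by
        rw [hσ _ hab, hσ a ha, hσ b hb, ← map_mul]; rfl
      simp only [d, this, Derivation.leibniz, tmul_add]
      rw [← TensorProduct.smul_tmul (σ a), ← TensorProduct.smul_tmul (σ b), Algebra.smul_def, Algebra.smul_def,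
        mul_one, mul_one, hσh a ha, hσh b hb, TensorProduct.smul_tmul', TensorProduct.smul_tmul', smul_eq_mul,
        smul_eq_mul, mul_one, mul_one]
    · have : σ (algebraMap R A r) = algebraMap R C r := by
        rw [hσ _ hr]
        exact g.commutes r
      simp [d, this]
  let φ := KaehlerDifferential.mapBaseChange R C A
  have hφ : ∀ j, φ (linearCombination A d (z j)) = x j := fun j => by
    rw [← hz j, linearCombination_apply, linearCombination_apply, Finsupp.sum, Finsupp.sum, map_sum]
    refine Finset.sum_congr rfl fun a ha => ?_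
    rw [map_smul]
    congr 1
    rw [KaehlerDifferential.mapBaseChange_tmul, one_smul, KaehlerDifferential.map_D, hσh a
      (Finset.mem_union_right _ (Finset.mem_biUnion.2 ⟨j, Finset.mem_univ _, ha⟩))]
  have hrel : ∑ j, f j • linearCombination A d (z j) = 0 := by
    simpa [map_sum] using hs₀ _ d (hd.mono Finset.subset_union_left)
  simpa [hφ] using isTrivialRelation_map φ (Module.Flat.isTrivialRelation_of_sum_smul_eq_zero hrel)

/-- Absolute differentials and differentials over a quotient of `ℤ`. -/
theorem flat_int_of_flat (k A : Type u) [CommRing k] [CommRing A] [Algebra k A]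
    (hs : Function.Surjective (Int.cast : ℤ → k)) (hflat : Module.Flat A (Ω[A⁄k])) : Module.Flat A (Ω[A⁄ℤ]) := by
  have hs' : Function.Surjective (algebraMap ℤ k) := fun c => by
    obtain ⟨n, rfl⟩ := hs c
    exact ⟨n, by simp⟩
  haveI : Subsingleton (Ω[k⁄ℤ]) := KaehlerDifferential.subsingleton_of_surjective ℤ k hs'
  let m := KaehlerDifferential.map ℤ k A A
  have hm : Function.Bijective m := by
    refine ⟨(injective_iff_map_eq_zero _).2 fun w hw => ?_, KaehlerDifferential.map_surjective ℤ k A⟩
    obtain ⟨q, rfl⟩ := (KaehlerDifferential.exact_mapBaseChange_map ℤ k A w).1 hw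
    rw [Subsingleton.elim q 0, map_zero]
  exact Module.Flat.of_linearEquiv (LinearEquiv.ofBijective m hm)

/-- For a regular ring of prime characteristic the absolute differentials are flat. -/
theorem flat_kaehler_int (p : ℕ) [Fact p.Prime] (A : Type u) [CommRing A] [IsRegularRing A] [CharP A p] :
    Module.Flat A (Ω[A⁄ℤ]) := by
  letI : Algebra (ZMod p) A := ZMod.algebra A p
  let k := ULift.{u} (ZMod p)
  letI : Algebra k A := ((algebraMap (ZMod p) A).comp (ULift.ringEquiv : k ≃+* ZMod p).toRingHom).toAlgebra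
  haveI : Finite k := inferInstanceAs (Finite (ULift.{u} (ZMod p)))
  haveI : IsNoetherianRing A := inferInstance
  have hreg : CAlg.IsRegularHom k A := GrothLib.GeomReg.isRegularHom_of_isGeometricallyRegular
    (GrothLib.CTensor.isGeometricallyRegular_of_perfect k A)
  have hflat : Module.Flat A (Ω[A⁄k]) := flat_kaehler_of_factor fun B hB => by
    haveI : Algebra.FiniteType k B := B.fg_iff_finiteType.1 hB
    haveI : Algebra.FinitePresentation k B := Algebra.FinitePresentation.of_finiteType.1 inferInstance
    exact Groth.Agent.S0595.result k A hreg B B.val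
  exact flat_int_of_flat k A (fun c => by
    obtain ⟨n, hn⟩ := ZMod.intCast_surjective c.down
    exact ⟨n, ULift.ext _ _ hn⟩) hflat

end GrothLib.KaehlerFlatX
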