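import Groth.Agent.Lib.LC.ExtVanish
import Groth.Agent.S0326
import Groth.Prelude.Def_Wider
import Mathlib.RingTheory.Depth.Rees
import Mathlib.RingTheory.Regular.RegularSequence

/-! # Local cohomology below the length of a weakly regular sequence -/

set_option autoImplicit false
universe u

open CategoryTheory Abelian RingTheory.Sequence Limits

namespace GrothLib.KaehlerFlatX

variable {R : Type u} [CommRing R]

theorem subsingleton_ext_of_isWeaklyRegular (N : ModuleCat.{u} R) :
    ∀ (rs : List R) (M : ModuleCat.{u} R), (∀ r ∈ rs, r ∈ Module.annihilator R N) → IsWeaklyRegular M rs →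
      ∀ i < rs.length, Subsingleton (Ext N M i) := by
  intro rs
  induction rs with
  | nil => intro M _ _ i hi; simp at hi
  | cons a rs ih =>
    intro M hmem reg i hi
    rw [isWeaklyRegular_cons_iff] at reg
    have ha : a ∈ Module.annihilator R N := hmem a List.mem_cons_self
    match i with
    | 0 =>
      have : Subsingleton (N →ₗ[R] M) := ⟨fun f g => LinearMap.ext fun x => reg.1 <| by
        change a • f x = a • g x
        rw [← map_smul, ← map_smul, Module.mem_annihilator.1 ha x, map_zero, map_zero]⟩
      exact (Ext.addEquiv₀.trans ModuleCat.homAddEquiv).subsingleton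
    | i + 1 =>
      let g := (AddCommGrpCat.ofHom ((Ext.mk₀ (M.smulShortComplex a).f).postcomp N (add_zero (i + 1))))
      have mono_g : Mono g := by
        apply (Ext.covariant_sequence_exact₁' N reg.1.smulShortComplex_shortExact i (i + 1)
          rfl).mono_g ((AddCommGrpCat.isZero_of_iff_subsingleton.mpr ?_).eq_zero_of_src _)
        exact ih (ModuleCat.of R (QuotSMulTop a M)) (fun r hr => hmem r (List.mem_cons_of_mem _ hr)) reg.2 i
          (by simpa using hi)
      have zero_g : g = 0 := Ext.postcomp_smul_id_eq_zero_of_mem_annihilator ha (i + 1)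
      exact AddCommGrpCat.subsingleton_of_isZero (IsZero.of_mono_eq_zero _ zero_g)

theorem subsingleton_H_of_flat [IsNoetherianRing R] (ts : List R) (hts : IsWeaklyRegular R ts)
    (M : Type u) [AddCommGroup M] [Module R M] [Module.Flat R M] (j : ℕ) (hj : j ≠ ts.length) :
    Subsingleton (LocCoh.H (Ideal.ofList ts) j M) := by
  rcases Nat.lt_or_gt_of_ne hj with hlt | hgt
  · have hM : IsWeaklyRegular M ts :=
      ((TensorProduct.rid R M).isWeaklyRegular_congr ts).1 hts.isWeaklyRegular_lTensor
    exact (GrothLib.LC.forall_subsingleton_H_iff (Ideal.ofList ts) (G := ModuleCat.of R M) ts.length).2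
      (fun i hi => subsingleton_ext_of_isWeaklyRegular (ModuleCat.of R (R ⧸ Ideal.ofList ts)) ts
        (ModuleCat.of R M) (fun r hr => by
          rw [Ideal.annihilator_quotient]
          exact Ideal.subset_span hr) hM i hi) j hlt
  · classical
    have h := Groth.Agent.S0326.result R ts.toFinset M j (lt_of_le_of_lt ts.toFinset_card_le hgt)
    rwa [List.coe_toFinset] at h

end GrothLib.KaehlerFlatX
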